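import Groth.Prelude.Def_W4c1bouilletffgsL3
import Groth.Agent.E4O.DimFormula
import Mathlib.RingTheory.RegularLocalRing.Polynomial
import Mathlib.RingTheory.Localization.AtPrime.Basic
import Mathlib.RingTheory.KrullDimension.Field
import Mathlib.Tactic.LinearCombination

/-!
Rational charts of `D/J` at rational points.
-/

set_option autoImplicit false

universe u

namespace Groth.Agent.Lie3Mod51

open MvPolynomial

variable {k : Type u} [Field k]

lemma ker_eval_isMaximal {n : ℕ} (x : Fin n → k) :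
    (RingHom.ker (eval x)).IsMaximal :=
  RingHom.ker_isMaximal_of_surjective _ fun c => ⟨C c, eval_C c⟩

lemma ker_eval_eq_span {n : ℕ} (x : Fin n → k) :
    RingHom.ker (eval x) = Ideal.span (Set.range fun i => X i - C (x i)) := by
  refine le_antisymm (fun p hp => ?_) ?_
  · have h : ∀ q : MvPolynomial (Fin n) k,
        q - C (eval x q) ∈ Ideal.span (Set.range fun i => X i - C (x i)) := by
      intro q
      induction q using MvPolynomial.induction_on with
      | C a => simp
      | add a b ha hb =>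
        rw [map_add, map_add, show a + b - (C (eval x a) + C (eval x b)) =
          (a - C (eval x a)) + (b - C (eval x b)) by ring]
        exact add_mem ha hb
      | mul_X a i ha =>
        rw [map_mul, eval_X, map_mul, show a * X i - C (eval x a) * C (x i) =
          (a - C (eval x a)) * X i + C (eval x a) * (X i - C (x i)) by ring]
        exact add_mem (Ideal.mul_mem_right _ _ ha)
          (Ideal.mul_mem_left _ _ (Ideal.subset_span ⟨i, rfl⟩))
    simpa [RingHom.mem_ker.1 hp] using h p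
  · rw [Ideal.span_le]
    rintro _ ⟨i, rfl⟩
    simp

lemma height_ker_eval {n : ℕ} (x : Fin n → k) : (RingHom.ker (eval x)).height = n := by
  haveI := ker_eval_isMaximal x
  set Q := RingHom.ker (eval x)
  haveI : Q.LiesOver (⊥ : Ideal k) := ⟨(Ideal.eq_bot_or_top _).resolve_right
    (Ideal.comap_ne_top _ (Ideal.IsMaximal.ne_top inferInstance)) |>.symm⟩
  have h := E4O.height_add_trdeg_mvPolynomial k n ⊥ Q
  haveI : Algebra.IsAlgebraic (k ⧸ (⊥ : Ideal k)) (MvPolynomial (Fin n) k ⧸ Q) := ⟨fun y => by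
    obtain ⟨p, rfl⟩ := Ideal.Quotient.mk_surjective y
    have : Ideal.Quotient.mk Q p =
        algebraMap (k ⧸ (⊥ : Ideal k)) (MvPolynomial (Fin n) k ⧸ Q) (Ideal.Quotient.mk _ (eval x p)) :=
      Ideal.Quotient.eq.2 (show p - C (eval x p) ∈ Q by simp [Q])
    rw [this]
    exact isAlgebraic_algebraMap _⟩
  rw [trdeg_eq_zero, add_zero, Ideal.height_bot, Cardinal.ofENat_zero, zero_add,
    ← Cardinal.ofENat_nat, Cardinal.ofENat_inj] at h
  exact h

/-- A chart by six coordinates in which `u • X j` is a polynomial `num j` of the coordinates. -/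
theorem regular_of_chart (x : Fin 9 → k) (x' : Fin 6 → k) (u : MvPolynomial (Fin 6) k)
    (num : Fin 9 → MvPolynomial (Fin 6) k) (v : Fin 6 → Lie3Mod.D k) (hu : eval x' u ≠ 0)
    (hQ : aeval num (Lie3Mod.Q1 k) = 0 ∧ aeval num (Lie3Mod.Q2 k) = 0 ∧
      aeval num (Lie3Mod.Q3 k) = 0 ∧ aeval num (Lie3Mod.detM k) = 0)
    (hlin : ∀ (i : Fin 6) (T : Type u) [CommRing T] [Algebra k T] (a : Fin 9 → T) (w : T),
      aeval (fun j => a j * w) (v i) = w * aeval a (v i))
    (hv : ∀ i, aeval num (v i) = u * X i)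
    (hX : ∀ j, aeval v u * X j - aeval v (num j) ∈ Lie3Mod.idJ k)
    (hx' : ∀ i, eval x (v i) = x' i) (hnum : ∀ j, eval x' (num j) = x j * eval x' u)
    (P : Ideal (Lie3Mod.D k ⧸ Lie3Mod.idJ k)) [P.IsPrime]
    (hP : P = Ideal.map (Ideal.Quotient.mk (Lie3Mod.idJ k)) (RingHom.ker (eval x))) :
    IsRegularLocalRing (Localization.AtPrime P) ∧ ringKrullDim (Localization.AtPrime P) = 6 := by
  haveI := ker_eval_isMaximal x'
  set P' := RingHom.ker (eval x') with hP'
  let R := MvPolynomial (Fin 6) k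
  let L := Localization.AtPrime P'
  let S := Lie3Mod.D k ⧸ Lie3Mod.idJ k
  let L' := Localization.AtPrime P
  have hu' : u ∈ P'.primeCompl := hu
  obtain ⟨w, hw⟩ := isUnit_iff_exists_inv.1 (IsLocalization.map_units L ⟨u, hu'⟩)
  let a : Fin 9 → L := fun j => algebraMap R L (num j)
  let ψ0 : Lie3Mod.D k →ₐ[k] L := aeval fun j => a j * w
  have ha : ∀ p : Lie3Mod.D k, aeval a p = algebraMap R L (aeval num p) := fun p =>
    (MvPolynomial.comp_aeval_apply num (IsScalarTower.toAlgHom k R L) p).symm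
  have hψJ : ∀ y ∈ Lie3Mod.idJ k, ψ0 y = 0 := by
    have : Lie3Mod.idJ k ≤ RingHom.ker ψ0 := by
      obtain ⟨h1, h2, h3, h4⟩ := hQ
      have e1 : ψ0 (Lie3Mod.Q1 k) = w ^ 2 * aeval a (Lie3Mod.Q1 k) := by
        simp [ψ0, Lie3Mod.Q1]; ring
      have e2 : ψ0 (Lie3Mod.Q2 k) = w ^ 2 * aeval a (Lie3Mod.Q2 k) := by
        simp [ψ0, Lie3Mod.Q2]; ring
      have e3 : ψ0 (Lie3Mod.Q3 k) = w ^ 2 * aeval a (Lie3Mod.Q3 k) := by
        simp [ψ0, Lie3Mod.Q3]; ring
      have e4 : ψ0 (Lie3Mod.detM k) = w ^ 3 * aeval a (Lie3Mod.detM k) := by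
        simp [ψ0, Lie3Mod.detM]; ring
      rw [ha, h1, map_zero, mul_zero] at e1
      rw [ha, h2, map_zero, mul_zero] at e2
      rw [ha, h3, map_zero, mul_zero] at e3
      rw [ha, h4, map_zero, mul_zero] at e4
      simp [Lie3Mod.idJ, Ideal.span_le, Set.insert_subset_iff, e1, e2, e3, e4]
    exact fun y hy => this hy
  let ψ : S →ₐ[k] L := Ideal.Quotient.liftₐ (Lie3Mod.idJ k) ψ0 hψJ
  have hψ : ∀ y, ψ (Ideal.Quotient.mk _ y) = ψ0 y := fun y => rfl
  let φ0 : R →ₐ[k] L' := aeval fun i => algebraMap S L' (Ideal.Quotient.mk _ (v i))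
  have hφ0 : ∀ r : R, φ0 r = algebraMap S L' (Ideal.Quotient.mk _ (aeval v r)) := fun r =>
    (MvPolynomial.comp_aeval_apply v
      ((IsScalarTower.toAlgHom k S L').comp (Ideal.Quotient.mkₐ k (Lie3Mod.idJ k))) r).symm
  have hev : ∀ r : R, eval x (aeval v r) = eval x' r := fun r => by
    have := MvPolynomial.comp_aeval_apply v (aeval x : Lie3Mod.D k →ₐ[k] k) r
    simp only [aeval_eq_eval] at this
    rw [this]
    exact congrArg (fun z => eval z r) (funext hx')
  let ev : L →ₐ[k] k := IsLocalization.liftAlgHom (M := P'.primeCompl) (S := L)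
    (f := (aeval x' : R →ₐ[k] k)) fun s => isUnit_iff_ne_zero.2 fun h => s.2
      (show eval x' s.1 = 0 by rw [← aeval_eq_eval]; exact h)
  have hev' : ∀ r : R, ev (algebraMap R L r) = eval x' r := fun r =>
    (IsLocalization.lift_eq _ r).trans (by rw [← aeval_eq_eval]; rfl)
  have hwv : ev w = (eval x' u)⁻¹ := by
    have := congrArg ev hw
    rw [map_mul, map_one, hev'] at this
    exact (eq_inv_of_mul_eq_one_left (by rw [mul_comm]; exact this))
  have hc : ev.comp ψ0 = aeval x := MvPolynomial.algHom_ext fun j => by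
    simp [ψ0, a, hev', hwv, hnum, mul_assoc, mul_inv_cancel₀ hu]
  have hJx : Lie3Mod.idJ k ≤ RingHom.ker (eval x) := by
    intro y hy
    rw [RingHom.mem_ker, ← aeval_eq_eval, ← hc, AlgHom.comp_apply, hψJ y hy, map_zero]
  have hPmem : ∀ y, Ideal.Quotient.mk (Lie3Mod.idJ k) y ∈ P ↔ eval x y = 0 := fun y => by
    rw [hP, ← Ideal.mem_comap, Ideal.comap_map_of_surjective _ Ideal.Quotient.mk_surjective,
      ← RingHom.ker_eq_comap_bot, Ideal.mk_ker, sup_eq_left.2 hJx, RingHom.mem_ker]
  have hφu : ∀ s : P'.primeCompl, IsUnit (φ0 s) := fun s => by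
    rw [hφ0]
    refine IsLocalization.map_units L' (M := P.primeCompl) ⟨_, fun h => s.2 ?_⟩
    show eval x' s.1 = 0
    rw [← hev]
    exact (hPmem _).1 h
  let φ : L →ₐ[k] L' := IsLocalization.liftAlgHom (M := P'.primeCompl) (S := L) (f := φ0) hφu
  have hφ : ∀ r : R, φ (algebraMap R L r) = φ0 r := fun r => IsLocalization.lift_eq _ r
  have hψu : ∀ s : P.primeCompl, IsUnit (ψ s) := by
    rintro ⟨s, hs⟩
    obtain ⟨y, rfl⟩ := Ideal.Quotient.mk_surjective s
    show IsUnit (ψ0 y)
    by_contra hn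
    have hsurj : Function.Surjective ev := fun c => ⟨algebraMap k L c, ev.commutes c⟩
    haveI : (RingHom.ker ev).IsMaximal := RingHom.ker_isMaximal_of_surjective _ hsurj
    rw [← mem_nonunits_iff, ← IsLocalRing.mem_maximalIdeal,
      ← IsLocalRing.eq_maximalIdeal (R := L) (I := RingHom.ker ev) inferInstance, RingHom.mem_ker,
      ← AlgHom.comp_apply, hc, aeval_eq_eval] at hn
    exact hs ((hPmem y).2 hn)
  let χ : L' →ₐ[k] L := IsLocalization.liftAlgHom (M := P.primeCompl) (S := L') (f := ψ) hψu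
  have hχ : ∀ y, χ (algebraMap S L' (Ideal.Quotient.mk _ y)) = ψ0 y := fun y =>
    (IsLocalization.lift_eq _ _).trans (hψ y)
  have h1 : χ.comp φ = AlgHom.id k L := by
    refine IsLocalization.algHom_ext P'.primeCompl ?_
    refine MvPolynomial.algHom_ext fun i => ?_
    show χ (φ (algebraMap R L (X i))) = algebraMap R L (X i)
    rw [hφ, hφ0, hχ, aeval_X]
    simp only [ψ0]
    rw [hlin, ha, hv, map_mul]
    linear_combination (algebraMap R L (X i)) * hw
  have h2 : φ.comp χ = AlgHom.id k L' := by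
    refine IsLocalization.algHom_ext P.primeCompl (Ideal.Quotient.algHom_ext _ ?_)
    refine MvPolynomial.algHom_ext fun j => ?_
    show φ (χ (algebraMap S L' (Ideal.Quotient.mk _ (X j)))) = algebraMap S L' (Ideal.Quotient.mk _ (X j))
    rw [hχ]
    simp only [ψ0, aeval_X, a, map_mul]
    have hwu := congrArg φ hw
    rw [map_mul, map_one, hφ] at hwu
    rw [hφ]
    rw [hφ0] at hwu ⊢
    have := Ideal.Quotient.eq_zero_iff_mem.2 (hX j)
    rw [map_sub, map_mul, sub_eq_zero] at this
    rw [← this, map_mul, mul_right_comm, hwu, one_mul]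
  let e : L ≃ₐ[k] L' := AlgEquiv.ofAlgHom φ χ h2 h1
  haveI : IsRegularLocalRing L := IsRegularRing.isRegularLocalRing_localization P'
  refine ⟨IsRegularLocalRing.of_ringEquiv e.toRingEquiv, ?_⟩
  rw [← ringKrullDim_eq_of_ringEquiv e.toRingEquiv,
    IsLocalization.AtPrime.ringKrullDim_eq_height P' L, hP', height_ker_eval]
  rfl

end Groth.Agent.Lie3Mod51
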