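import Groth.Agent.Lie3Mod51.Regular

/-!
Colon ideals of the leading coefficients, computed with monomial maps.
-/

set_option autoImplicit false

namespace Groth.Agent.Lie3Mod51

open MvPolynomial Finsupp

variable {A : Type*} [CommRing A]

lemma monMap_X {σ τ : Type*} [DecidableEq σ] (v : σ → τ →₀ ℕ) (Z : Finset σ) (i : σ) :
    monMap (A := A) v Z (X i) = if i ∈ Z then 0 else monomial (v i) 1 := aeval_X _ _

lemma colon6 (n : ℕ) (r : MvPolynomial (Fin 6) A)
    (hr : r * p1 A ^ (n + 1) ∈ (⊥ : Ideal (MvPolynomial (Fin 6) A)) ⊔ Ideal.span {X 4}) :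
    r ∈ (⊥ : Ideal (MvPolynomial (Fin 6) A)) ⊔ Ideal.span {X 4, 0} := by
  have hk : RingHom.ker (kill (A := A) {(4 : Fin 6)}) = Ideal.span {X 4} := by
    rw [ker_kill]; simp
  rw [bot_sup_eq, ← hk, RingHom.mem_ker, map_mul, map_pow] at hr
  rw [bot_sup_eq]
  refine Ideal.span_mono (by simp) (?_ : r ∈ Ideal.span {(X 4 : MvPolynomial (Fin 6) A)})
  rw [← hk, RingHom.mem_ker]
  have hreg : kill (A := A) {(4 : Fin 6)} (p1 A) ∈ nonZeroDivisors _ := by
    have : kill (A := A) {(4 : Fin 6)} (p1 A) =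
        monomial (single 0 1 + single 3 1) 1 + monomial (single 1 1 + single 5 1) 1 := by
      simp [kill, p1]
      simp [X, monomial_mul]
    rw [this]
    exact regular_top (applyAddHom 0) _ isUnit_one fun a ha =>
      coeff_monomial_of_lt _ (by simp [single_apply]) ha _
  exact (mul_right_mem_nonZeroDivisors_eq_zero_iff (pow_mem hreg _)).1 hr

/-- Exponent vectors of the monomial map resolving `(q₁, l₃)`. -/
noncomputable def v7 : Fin 7 → (Fin 6 →₀ ℕ) :=
  ![single 0 1 + single 3 1, single 0 1 + single 2 1, single 5 1, single 4 1,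
    single 1 1 + single 3 1, single 1 1 + single 2 1, 0]

lemma ker7 {x : MvPolynomial (Fin 7) A} (hx : monMap v7 {6} x = 0) :
    x ∈ K7 A ⊔ Ideal.span {X 6} := by
  have h6 : (X 6 : MvPolynomial (Fin 7) A) ∈ K7 A ⊔ Ideal.span {X 6} :=
    Ideal.mem_sup_right (Ideal.mem_span_singleton_self _)
  have hbin : (X 1 * X 4 - X 0 * X 5 : MvPolynomial (Fin 7) A) ∈ K7 A ⊔ Ideal.span {X 6} := by
    rw [show (X 1 * X 4 - X 0 * X 5 : MvPolynomial (Fin 7) A) = -q1 A - X 2 * X 6 by
      simp [q1, p1]; ring]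
    exact sub_mem (Ideal.mem_sup_left (neg_mem (Ideal.mem_span_singleton_self _)))
      (Ideal.mul_mem_left _ _ h6)
  refine mem_of_map_eq_zero (monMap v7 {6}) {m | m 6 = 0 ∧ (m 1 = 0 ∨ m 4 = 0)}
    (fun m => ∑ i, m i • v7 i) (fun m hm => monMap_monomial _ _ (by simpa using hm.1)) ?_ _ ?_
    (reduce_all _ (fun m => m 1) fun m => ?_) hx
  · intro m hm m' hm' h
    have h0 := DFunLike.congr_fun h (0 : Fin 6)
    have h1 := DFunLike.congr_fun h (1 : Fin 6)
    have h2 := DFunLike.congr_fun h (2 : Fin 6)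
    have h3 := DFunLike.congr_fun h (3 : Fin 6)
    have h4 := DFunLike.congr_fun h (4 : Fin 6)
    have h5 := DFunLike.congr_fun h (5 : Fin 6)
    simp [v7, Fin.sum_univ_seven, single_apply] at h0 h1 h2 h3 h4 h5
    simp only [Set.mem_ofPred_eq] at hm hm'
    ext i
    fin_cases i <;> simp <;> omega
  · intro y hy
    have hle : K7 A ⊔ Ideal.span {X 6} ≤ RingHom.ker (monMap (A := A) v7 {6}) := by
      refine sup_le ?_ ?_
      · rw [K7, Ideal.span_le, Set.singleton_subset_iff, SetLike.mem_coe, RingHom.mem_ker]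
        simp [q1, p1, monMap_X, v7, monomial_mul]
        rw [sub_eq_zero]; congr 2; ext t; fin_cases t <;> simp [single_apply]
      · rw [Ideal.span_le, Set.singleton_subset_iff, SetLike.mem_coe, RingHom.mem_ker]
        simp [monMap_X]
    exact hle hy
  · by_cases h : 0 < m 6
    · exact .inl (monomial_mem_of_X_mem h6 h)
    by_cases h' : m 1 = 0 ∨ m 4 = 0
    · exact .inr (.inl ⟨by omega, h'⟩)
    obtain ⟨m₀, hm, hK⟩ := reduce_step (m := m) (show (1 : Fin 7) ≠ 4 by decide) (by omega)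
      (by omega) hbin
    refine .inr (.inr ⟨_, ?_, hK⟩)
    subst hm
    simp [single_apply]

lemma colon7 (n : ℕ) (r : MvPolynomial (Fin 7) A)
    (hr : r * p3 A ^ (n + 1) ∈ K7 A ⊔ Ideal.span {X 6}) :
    r ∈ K7 A ⊔ Ideal.span {X 6, 0} := by
  have hle : K7 A ⊔ Ideal.span {X 6} ≤ RingHom.ker (monMap (A := A) v7 {6}) := by
    refine sup_le ?_ ?_
    · rw [K7, Ideal.span_le, Set.singleton_subset_iff, SetLike.mem_coe, RingHom.mem_ker]
      simp [q1, p1, monMap_X, v7, monomial_mul]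
      rw [sub_eq_zero]; congr 2; ext t; fin_cases t <;> simp [single_apply]
    · rw [Ideal.span_le, Set.singleton_subset_iff, SetLike.mem_coe, RingHom.mem_ker]
      simp [monMap_X]
  have hreg : monMap v7 {6} (p3 A) ∈ nonZeroDivisors _ := by
    have : monMap v7 {6} (p3 A) = monomial (single 4 1 + (single 1 1 + single 3 1)) (1 : A) +
        monomial (single 5 1 + (single 1 1 + single 2 1)) 1 := by
      simp [p3, monMap_X, v7, monomial_mul]
    rw [this]
    exact regular_top (applyAddHom 4) _ isUnit_one fun a ha =>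
      coeff_monomial_of_lt _ (by simp [single_apply]) ha _
  have h0 := RingHom.mem_ker.1 (hle hr)
  rw [map_mul, map_pow] at h0
  exact (sup_le_sup_left (Ideal.span_mono (by simp : ({X 6} : Set (MvPolynomial (Fin 7) A)) ⊆ {X 6, 0})) _ :)
    (ker7 ((mul_right_mem_nonZeroDivisors_eq_zero_iff (pow_mem hreg _)).1 h0))

/-- Exponent vectors of the monomial map resolving `(q₁, q₃, l₁, δ)`. -/
noncomputable def v8 : Fin 8 → (Fin 6 →₀ ℕ) :=
  ![single 1 2 + single 2 1, single 0 2 + single 2 1, single 4 1,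
    single 0 1 + single 1 1 + single 2 1, single 5 1, 0, single 1 1 + single 3 1,
    single 0 1 + single 3 1]

lemma ker8 {x : MvPolynomial (Fin 8) A} (hx : monMap v8 {5} x = 0) :
    x ∈ K8 A ⊔ Ideal.span {X 5, δ A} := by
  set K := K8 A ⊔ Ideal.span {X 5, δ A} with hKdef
  have h5 : (X 5 : MvPolynomial (Fin 8) A) ∈ K :=
    Ideal.mem_sup_right (Ideal.subset_span (by simp))
  have hδ : δ A ∈ K := Ideal.mem_sup_right (Ideal.subset_span (by simp))
  have hq1 : inc (q1 A) ∈ K :=
    Ideal.mem_sup_left (Ideal.mem_sup_left (Ideal.mem_map_of_mem _ (Ideal.mem_span_singleton_self _)))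
  have hq3 : q3 A ∈ K :=
    Ideal.mem_sup_left (Ideal.mem_sup_right (Ideal.mem_span_singleton_self _))
  have hbin1 : (X 1 * X 6 - X 3 * X 7 : MvPolynomial (Fin 8) A) ∈ K := by
    rw [show (X 1 * X 6 - X 3 * X 7 : MvPolynomial (Fin 8) A) = inc (q1 A) + X 2 * X 5 by
      simp [q1, p1]; ring]
    exact add_mem hq1 (Ideal.mul_mem_left _ _ h5)
  have hbin3 : (X 3 * X 6 - X 0 * X 7 : MvPolynomial (Fin 8) A) ∈ K := by
    rw [show (X 3 * X 6 - X 0 * X 7 : MvPolynomial (Fin 8) A) = -q3 A - X 4 * X 5 by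
      simp [q3, p3]; ring]
    exact sub_mem (neg_mem hq3) (Ideal.mul_mem_left _ _ h5)
  refine mem_of_map_eq_zero (monMap v8 {5})
    {m | m 5 = 0 ∧ m 3 ≤ 1 ∧ (m 6 = 0 ∨ (m 1 = 0 ∧ m 3 = 0))} (fun m => ∑ i, m i • v8 i)
    (fun m hm => monMap_monomial _ _ (by simpa using hm.1)) ?_ _ ?_
    (reduce_all _ (fun m => 2 * m 6 + m 3) fun m => ?_) hx
  · intro m hm m' hm' h
    have h0 := DFunLike.congr_fun h (0 : Fin 6)
    have h1 := DFunLike.congr_fun h (1 : Fin 6)
    have h2 := DFunLike.congr_fun h (2 : Fin 6)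
    have h3 := DFunLike.congr_fun h (3 : Fin 6)
    have h4 := DFunLike.congr_fun h (4 : Fin 6)
    have h5 := DFunLike.congr_fun h (5 : Fin 6)
    simp [v8, Fin.sum_univ_eight, single_apply] at h0 h1 h2 h3 h4 h5
    simp only [Set.mem_ofPred_eq] at hm hm'
    ext i
    fin_cases i <;> simp <;> omega
  · intro y hy
    have hle : K ≤ RingHom.ker (monMap (A := A) v8 {5}) := by
      rw [hKdef, K8, K7, Ideal.map_span]
      refine sup_le (sup_le ?_ ?_) ?_ <;>
        simp [Ideal.span_le, Set.insert_subset_iff, q1, p1, q3, p3, δ, monMap_X, v8,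
          monomial_mul] <;>
        (rw [sub_eq_zero]; congr 2; ext t; fin_cases t <;> simp [single_apply])
    exact hle hy
  · by_cases h : 0 < m 5
    · exact .inl (monomial_mem_of_X_mem h5 h)
    by_cases h' : m 3 ≤ 1 ∧ (m 6 = 0 ∨ (m 1 = 0 ∧ m 3 = 0))
    · exact .inr (.inl ⟨by omega, h'⟩)
    by_cases h3 : 2 ≤ m 3
    · obtain ⟨m₀, hm, hK⟩ := reduce_step_sq (m := m) h3 (show X 3 * X 3 - X 1 * X 0 ∈ K from hδ)
      refine .inr (.inr ⟨_, ?_, hK⟩)
      subst hm
      simp [single_apply]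
    by_cases h1 : m 1 = 0
    · obtain ⟨m₀, hm, hK⟩ := reduce_step (m := m) (show (3 : Fin 8) ≠ 6 by decide) (by omega)
        (by omega) hbin3
      refine .inr (.inr ⟨_, ?_, hK⟩)
      subst hm
      simp [single_apply]
      omega
    · obtain ⟨m₀, hm, hK⟩ := reduce_step (m := m) (show (1 : Fin 8) ≠ 6 by decide) (by omega)
        (by omega) hbin1
      refine .inr (.inr ⟨_, ?_, hK⟩)
      subst hm
      simp [single_apply]
      omega

lemma colon8 (n : ℕ) (r : MvPolynomial (Fin 8) A)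
    (hr : r * p2 A ^ (n + 1) ∈ K8 A ⊔ Ideal.span {X 5}) :
    r ∈ K8 A ⊔ Ideal.span {X 5, δ A} := by
  have hle : K8 A ⊔ Ideal.span {X 5} ≤ RingHom.ker (monMap (A := A) v8 {5}) := by
    rw [K8, K7, Ideal.map_span]
    refine sup_le (sup_le ?_ ?_) ?_ <;>
      simp [Ideal.span_le, Set.insert_subset_iff, q1, p1, q3, p3, monMap_X, v8, monomial_mul] <;>
      (rw [sub_eq_zero]; congr 2; ext t; fin_cases t <;> simp [single_apply])
  have hreg : monMap v8 {5} (p2 A) ∈ nonZeroDivisors _ := by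
    have : monMap v8 {5} (p2 A) =
        monomial (single 4 1 + (single 1 1 + single 3 1)) (-1 : A) +
        (monomial (single 1 1 + single 3 1 + (single 0 1 + single 3 1)) 1 -
          monomial (single 5 1 + (single 0 1 + single 3 1)) 1) := by
      simp [p2, monMap_X, v8, monomial_mul]
      ring
    rw [this]
    refine regular_top (applyAddHom 4) _ isUnit_one.neg fun a ha => ?_
    rw [coeff_sub, coeff_monomial_of_lt _ (by simp [single_apply]) ha,
      coeff_monomial_of_lt _ (by simp [single_apply]) ha, sub_zero]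
  have h0 := RingHom.mem_ker.1 (hle hr)
  rw [map_mul, map_pow] at h0
  exact ker8 ((mul_right_mem_nonZeroDivisors_eq_zero_iff (pow_mem hreg _)).1 h0)

end Groth.Agent.Lie3Mod51
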