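import Groth.Agent.Lie3Mod51.Colon

/-!
Primality of the second component, in triangular coordinates.
-/

set_option autoImplicit false

namespace Groth.Agent.Lie3Mod51

open MvPolynomial

variable {A : Type*} [CommRing A]

lemma sup_span_zero {R : Type*} [CommRing R] (K : Ideal R) (a : R) :
    K ⊔ Ideal.span {a, 0} = K ⊔ Ideal.span {a} := by
  rw [Set.pair_comm, Ideal.span_insert_zero]

lemma prime7 [IsDomain A] : (K7 A).IsPrime := by
  haveI : (⊥ : Ideal (MvPolynomial (Fin 6) A)).IsPrime := Ideal.isPrime_bot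
  refine isPrime_of_saturated_inc (K := ⊥) (l := X 4) (p := p1 A)
    (by simpa using X_ne_zero (R := A) (4 : Fin 6)) fun q => ⟨fun h => ⟨0, ?_⟩, fun ⟨m, hm⟩ => ?_⟩
  · simpa [q1, K7] using h
  · have := mem_of_pow_mul_mem_inc (δ := 0) (ε := 0) (regMod_bot (X_regular (A := A) (4 : Fin 6)))
      colon6 (by simp) hm
    simpa [K7, q1, Set.pair_comm _ (0 : MvPolynomial (Fin 7) A)] using this

/-- The point with all coordinates zero except one. -/
noncomputable def ev {n : ℕ} (j : Fin n) : MvPolynomial (Fin n) A →+* A :=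
  eval fun i => if i = j then 1 else 0

lemma ev7 : K7 A ≤ RingHom.ker (ev (A := A) (6 : Fin 7)) := by
  simp [K7, Ideal.span_le, q1, p1, ev]

lemma not_mem7 [Nontrivial A] : (X 6 : MvPolynomial (Fin 7) A) ∉ K7 A := fun h =>
  one_ne_zero (α := A) (by simpa [ev] using ev7 h)

lemma sat8 {q : MvPolynomial (Fin 8) A} {m : ℕ}
    (hq : inc (X 6) ^ m * q ∈ K8 A) : q ∈ K8 A := by
  have := mem_of_pow_mul_mem_inc (K := K7 A) (δ := 0) (ε := 0) reg7_l3 colon7 (by simp) hq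
  rwa [map_zero, zero_mul, add_zero, sup_span_zero] at this

lemma prime8 [IsDomain A] : (K8 A).IsPrime :=
  haveI := prime7 (A := A)
  isPrime_of_saturated_inc (K := K7 A) (l := X 6) (p := p3 A) not_mem7 fun _ =>
    ⟨fun h => ⟨0, by rw [pow_zero, one_mul]; exact h⟩, fun ⟨_, hm⟩ => sat8 hm⟩

lemma ev8 : K8 A ≤ RingHom.ker (ev (A := A) (5 : Fin 8)) := by
  simp [K8, K7, Ideal.map_span, Ideal.span_le, q1, p1, q3, p3, ev]

lemma not_mem8 [Nontrivial A] : (X 5 : MvPolynomial (Fin 8) A) ∉ K8 A := fun h =>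
  one_ne_zero (α := A) (by simpa [ev] using ev8 h)

lemma l1_det_mem : inc (X 5) * det A ∈ I9 A := by
  have h1 : inc (inc (q1 A)) ∈ I9 A := Ideal.mem_sup_left (Ideal.mem_map_of_mem _
    (Ideal.mem_sup_left (Ideal.mem_map_of_mem _ (Ideal.mem_span_singleton_self _))))
  have h3 : inc (q3 A) ∈ I9 A := Ideal.mem_sup_left (Ideal.mem_map_of_mem _
    (Ideal.mem_sup_right (Ideal.mem_span_singleton_self _)))
  have h2 : q2 A ∈ I9 A := Ideal.mem_sup_right (Ideal.mem_span_singleton_self _)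
  rw [show inc (X 5) * det A = (X 3 * X 1 - (X 7 - X 5) * X 4) * inc (inc (q1 A)) +
      (X 4 * X 4 - X 2 * X 1) * q2 A + (-(X 2 * (X 7 - X 5)) + X 3 * X 4) * inc (q3 A) by
    simp [det, δ, ε, q1, p1, q2, p2, q3, p3]; ring]
  exact add_mem (add_mem (Ideal.mul_mem_left _ _ h1) (Ideal.mul_mem_left _ _ h2))
    (Ideal.mul_mem_left _ _ h3)

lemma I9_le_J9 : I9 A ≤ J9 A := sup_le_sup_left (Ideal.span_mono (by simp)) _

lemma l1_mul_mem {q : MvPolynomial (Fin 9) A} (hq : q ∈ J9 A) : inc (X 5) * q ∈ I9 A := by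
  obtain ⟨k, hk, w, hw, rfl⟩ := Submodule.mem_sup.1 hq
  obtain ⟨a, b, rfl⟩ := Ideal.mem_span_pair.1 hw
  rw [show inc (X 5) * (k + (a * q2 A + b * det A)) =
    inc (X 5) * k + (inc (X 5) * a) * q2 A + b * (inc (X 5) * det A) by ring]
  exact add_mem (add_mem (Ideal.mul_mem_left _ _ (Ideal.mem_sup_left hk))
    (Ideal.mul_mem_left _ _ (Ideal.mem_sup_right (Ideal.mem_span_singleton_self _))))
    (Ideal.mul_mem_left _ _ l1_det_mem)

lemma sat9 {q : MvPolynomial (Fin 9) A} {m : ℕ} (hq : inc (X 5) ^ m * q ∈ I9 A) : q ∈ J9 A :=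
  mem_of_pow_mul_mem_inc (K := K8 A) reg8_l1 colon8 l1_det_mem hq

lemma prime9 [IsDomain A] : (J9 A).IsPrime :=
  haveI := prime8 (A := A)
  isPrime_of_saturated_inc (K := K8 A) (l := X 5) (p := p2 A) not_mem8 fun _ =>
    ⟨fun h => ⟨1, by rw [pow_one]; exact l1_mul_mem h⟩, fun ⟨_, hm⟩ => sat9 hm⟩

lemma ev9 : J9 A ≤ RingHom.ker (ev (A := A) (6 : Fin 9)) := by
  simp [J9, K8, K7, Ideal.map_span, Ideal.map_sup, Ideal.span_le, Set.insert_subset_iff,
    q1, p1, q2, p2, q3, p3, det, δ, ε, ev]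

end Groth.Agent.Lie3Mod51
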