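import Groth.Prelude.Def_W4c1bouilletffgsL3
import Groth.Agent.Lie3Mod51.Prime
import Mathlib.RingTheory.Ideal.Colon
import Mathlib.RingTheory.Ideal.MinimalPrime.Basic

/-!
The components of the space of based three-dimensional Lie algebras.
-/

set_option autoImplicit false

namespace Groth.Agent.Lie3Mod51

open MvPolynomial

variable (A : Type*) [CommRing A]

/-- The triangular coordinates `(e, c, g, h, i, f, L₁, L₂, L₃)`. -/
noncomputable def coord : Lie3Mod.D A ≃ₐ[A] MvPolynomial (Fin 9) A :=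
  AlgEquiv.ofAlgHom
    (aeval ![X 4 + X 6, X 7 - X 5, X 1, X 8 - X 3, X 0, X 5, X 2, X 3, X 4])
    (aeval ![Lie3Mod.ve, Lie3Mod.vc, Lie3Mod.vg, Lie3Mod.vh, Lie3Mod.vi, Lie3Mod.vf,
      Lie3Mod.L1 A, Lie3Mod.L2 A, Lie3Mod.L3 A])
    (MvPolynomial.algHom_ext fun i => by
      fin_cases i <;>
        simp [Lie3Mod.L1, Lie3Mod.L2, Lie3Mod.L3])
    (MvPolynomial.algHom_ext fun i => by
      fin_cases i <;>
        simp [Lie3Mod.L1, Lie3Mod.L2, Lie3Mod.L3])

variable {A}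

lemma coord_Q1 : coord A (Lie3Mod.Q1 A) = -inc (inc (q1 A)) := by
  simp [coord, Lie3Mod.Q1, q1, p1]; ring

lemma coord_Q2 : coord A (Lie3Mod.Q2 A) = -q2 A := by
  simp [coord, Lie3Mod.Q2, q2, p2]; ring

lemma coord_Q3 : coord A (Lie3Mod.Q3 A) = inc (q3 A) := by
  simp [coord, Lie3Mod.Q3, q3, p3]; ring

lemma coord_det : coord A (Lie3Mod.detM A) = det A := by
  simp [coord, Lie3Mod.detM, det, δ, ε]; ring

lemma coord_L1 : coord A (Lie3Mod.L1 A) = inc (X 5) := by
  simp [coord, Lie3Mod.L1]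

lemma mem_map_coord {I : Ideal (Lie3Mod.D A)} (x : Lie3Mod.D A) :
    coord A x ∈ I.map (coord A).toRingEquiv.toRingHom ↔ x ∈ I := by
  refine ⟨fun h => ?_, fun h => Ideal.mem_map_of_mem (coord A).toRingEquiv.toRingHom h⟩
  obtain ⟨y, hy, hxy⟩ :=
    (Ideal.mem_map_iff_of_surjective _ (coord A).toRingEquiv.surjective).1 h
  rwa [← (coord A).injective hxy]

lemma map_idI : (Lie3Mod.idI A).map (coord A).toRingEquiv.toRingHom = I9 A := by
  rw [Lie3Mod.idI, Ideal.map_span, I9, K8_map]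
  simp [Set.image_insert_eq, Ideal.span_insert, coord_Q1, coord_Q2, coord_Q3,
    Ideal.span_singleton_neg]
  generalize Ideal.span {q2 A} = a
  generalize Ideal.span {inc (q3 A)} = b
  generalize Ideal.span {inc (inc (q1 A))} = c
  try generalize Ideal.span {det A} = d
  ac_rfl

lemma map_idJ : (Lie3Mod.idJ A).map (coord A).toRingEquiv.toRingHom = J9 A := by
  rw [Lie3Mod.idJ, Ideal.map_span, J9, K8_map]
  simp [Set.image_insert_eq, Ideal.span_insert, coord_Q1, coord_Q2, coord_Q3, coord_det,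
    Ideal.span_singleton_neg]
  generalize Ideal.span {q2 A} = a
  generalize Ideal.span {inc (q3 A)} = b
  generalize Ideal.span {inc (inc (q1 A))} = c
  try generalize Ideal.span {det A} = d
  ac_rfl

/-- `J` is the saturation of `I` with respect to `L₁`. -/
theorem mem_idJ_iff {x : Lie3Mod.D A} :
    x ∈ Lie3Mod.idJ A ↔ Lie3Mod.L1 A * x ∈ Lie3Mod.idI A := by
  rw [← mem_map_coord (I := Lie3Mod.idI A), ← mem_map_coord (I := Lie3Mod.idJ A), map_idI, map_idJ,
    map_mul, coord_L1]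
  exact ⟨l1_mul_mem, fun h => sat9 (m := 1) (by rwa [pow_one])⟩

theorem mem_idJ_of_pow {x : Lie3Mod.D A} {m : ℕ} (h : Lie3Mod.L1 A ^ m * x ∈ Lie3Mod.idI A) :
    x ∈ Lie3Mod.idJ A := by
  rw [← mem_map_coord (I := Lie3Mod.idI A), map_idI, map_mul, map_pow, coord_L1] at h
  rw [← mem_map_coord (I := Lie3Mod.idJ A), map_idJ]
  exact sat9 h

theorem idJ_isPrime [IsDomain A] : (Lie3Mod.idJ A).IsPrime := by
  have h : Lie3Mod.idJ A = (J9 A).comap (coord A).toRingEquiv.toRingHom :=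
    Ideal.ext fun x => by rw [Ideal.mem_comap, ← map_idJ]; exact (mem_map_coord x).symm
  rw [h]
  haveI := prime9 (A := A)
  exact Ideal.comap_isPrime _ _

theorem L1_notMem_idJ [Nontrivial A] : Lie3Mod.L1 A ∉ Lie3Mod.idJ A := fun h => by
  rw [← mem_map_coord (I := Lie3Mod.idJ A), map_idJ, coord_L1] at h
  exact one_ne_zero (α := A) (by simpa [ev] using ev9 h)

/-- The retraction killing `L`. -/
noncomputable def killL : Lie3Mod.D A →ₐ[A] Lie3Mod.D A :=
  aeval ![X 8, -X 5, X 2, -X 7, X 4, X 5, X 6, X 7, X 8]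

lemma ker_killL : RingHom.ker (killL (A := A)) = Lie3Mod.idL A := by
  have h1 : Lie3Mod.L1 A ∈ Lie3Mod.idL A := Ideal.subset_span (by simp)
  have h2 : Lie3Mod.L2 A ∈ Lie3Mod.idL A := Ideal.subset_span (by simp)
  have h3 : Lie3Mod.L3 A ∈ Lie3Mod.idL A := Ideal.subset_span (by simp)
  refine le_antisymm (fun x hx => ?_) ?_
  · have h : ∀ y : Lie3Mod.D A, y - killL y ∈ Lie3Mod.idL A := by
      intro y
      induction y using MvPolynomial.induction_on with
      | C a => simp [killL]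
      | add p q hp hq =>
        rw [map_add, show p + q - (killL p + killL q) = (p - killL p) + (q - killL q) by ring]
        exact add_mem hp hq
      | mul_X p i hp =>
        have hi : (X i : Lie3Mod.D A) - killL (X i) ∈ Lie3Mod.idL A := by
          fin_cases i <;>
            simp [killL, Lie3Mod.L1, Lie3Mod.L2, Lie3Mod.L3] at h1 h2 h3 ⊢ <;> assumption
        rw [map_mul, show p * X i - killL p * killL (X i) =
          (p - killL p) * X i + killL p * (X i - killL (X i)) by ring]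
        exact add_mem (Ideal.mul_mem_right _ _ hp) (Ideal.mul_mem_left _ _ hi)
    simpa [RingHom.mem_ker.1 hx] using h x
  · simp [Lie3Mod.idL, Ideal.span_le, Set.insert_subset_iff, killL, Lie3Mod.L1, Lie3Mod.L2,
      Lie3Mod.L3]

theorem idL_isPrime [IsDomain A] : (Lie3Mod.idL A).IsPrime := by
  rw [← ker_killL]
  exact RingHom.ker_isPrime _

theorem idI_le_idL : Lie3Mod.idI A ≤ Lie3Mod.idL A := by
  rw [← ker_killL]
  simp [Lie3Mod.idI, Ideal.span_le, Set.insert_subset_iff, killL, Lie3Mod.Q1, Lie3Mod.Q2,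
    Lie3Mod.Q3]
  repeat' constructor
  all_goals ring

theorem idI_le_idJ : Lie3Mod.idI A ≤ Lie3Mod.idJ A :=
  Ideal.span_mono fun _ hx => by
    simp only [Set.mem_insert_iff, Set.mem_singleton_iff] at hx ⊢
    exact hx.imp_right fun h => h.imp_right Or.inl

theorem regMod_detM : RegMod (Lie3Mod.idL A) (Lie3Mod.detM A) := by
  rw [← ker_killL]
  refine regMod_of_ker (killL (A := A)).toRingHom ?_
  have h1 : killL (Lie3Mod.detM A) = X 4 * (X 8 * X 8) +
        (-(X 2 * (X 7 * X 7)) - X 6 * (X 5 * X 5) - X 6 * (X 4 * X 2) - X 7 * (X 5 * X 8) -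
          X 8 * (X 7 * X 5)) := by
    simp [killL, Lie3Mod.detM]
    ring
  have hm : (X 4 * (X 8 * X 8) : Lie3Mod.D A) =
      monomial (Finsupp.single 4 1 + (Finsupp.single 8 1 + Finsupp.single 8 1)) (1 : A) := by
    simp [X, monomial_mul]
  rw [hm] at h1
  change killL (Lie3Mod.detM A) ∈ _
  rw [h1]
  refine regular_top (Finsupp.applyAddHom 4 + Finsupp.applyAddHom 8) _ isUnit_one fun a ha => ?_
  simp only [X, monomial_mul, coeff_sub, coeff_neg]
  rw [coeff_monomial_of_lt _ ?_ ha, coeff_monomial_of_lt _ ?_ ha, coeff_monomial_of_lt _ ?_ ha,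
    coeff_monomial_of_lt _ ?_ ha, coeff_monomial_of_lt _ ?_ ha]
  · simp
  all_goals simp [Finsupp.single_apply]

theorem detM_L_mem {x : Lie3Mod.D A}
    (hx : x ∈ ({Lie3Mod.L1 A, Lie3Mod.L2 A, Lie3Mod.L3 A} : Set (Lie3Mod.D A))) :
    Lie3Mod.detM A * x ∈ Lie3Mod.idI A := by
  have h1 : Lie3Mod.Q1 A ∈ Lie3Mod.idI A := Ideal.subset_span (by simp)
  have h2 : Lie3Mod.Q2 A ∈ Lie3Mod.idI A := Ideal.subset_span (by simp)
  have h3 : Lie3Mod.Q3 A ∈ Lie3Mod.idI A := Ideal.subset_span (by simp)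
  have key : ∀ u v w : Lie3Mod.D A,
      Lie3Mod.detM A * x = u * Lie3Mod.Q1 A + v * Lie3Mod.Q2 A + w * Lie3Mod.Q3 A →
      Lie3Mod.detM A * x ∈ Lie3Mod.idI A := fun u v w h => h ▸
    add_mem (add_mem (Ideal.mul_mem_left _ _ h1) (Ideal.mul_mem_left _ _ h2))
      (Ideal.mul_mem_left _ _ h3)
  open Lie3Mod in
  simp only [Set.mem_insert_iff, Set.mem_singleton_iff] at hx
  open Lie3Mod in
  rcases hx with rfl | rfl | rfl
  · exact key (-(vh * vc) + vb * vi) (vg * vc - vi * vi) (-(vg * vb) + vh * vi)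
      (by simp [detM, L1, Q1, Q2, Q3]; ring)
  · exact key (ve * vc - vb * vf) (vh * vc + vi * vf) (-(vh * vb) - vi * ve)
      (by simp [detM, L2, Q1, Q2, Q3]; ring)
  · exact key (ve * vi - vh * vf) (vh * vi + vg * vf) (-(vh * vh) - vg * ve)
      (by simp [detM, L3, Q1, Q2, Q3]; ring)

theorem idJ_mul_idL : Lie3Mod.idJ A * Lie3Mod.idL A ≤ Lie3Mod.idI A := by
  rw [Lie3Mod.idJ, Lie3Mod.idL, Ideal.span_mul_span', Ideal.span_le]
  rintro _ ⟨u, hu, v, hv, rfl⟩
  simp only [Set.mem_insert_iff, Set.mem_singleton_iff] at hu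
  rcases hu with rfl | rfl | rfl | rfl
  · exact Ideal.mul_mem_right _ _ (Ideal.subset_span (by simp))
  · exact Ideal.mul_mem_right _ _ (Ideal.subset_span (by simp))
  · exact Ideal.mul_mem_right _ _ (Ideal.subset_span (by simp))
  · exact detM_L_mem hv

theorem colon_idL :
    (Lie3Mod.idI A).colon (Lie3Mod.idL A : Set (Lie3Mod.D A)) = Lie3Mod.idJ A := by
  ext x
  rw [Submodule.mem_colon]
  refine ⟨fun h => mem_idJ_iff.2 ?_, fun h y hy => idJ_mul_idL (Ideal.mul_mem_mul h hy)⟩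
  rw [mul_comm]
  exact h _ (Ideal.subset_span (by simp))

theorem inf_eq : Lie3Mod.idJ A ⊓ Lie3Mod.idL A = Lie3Mod.idI A := by
  refine le_antisymm ?_ (le_inf idI_le_idJ idI_le_idL)
  rintro x ⟨hJ, hL⟩
  rw [SetLike.mem_coe, Lie3Mod.idJ,
    show ({Lie3Mod.Q1 A, Lie3Mod.Q2 A, Lie3Mod.Q3 A, Lie3Mod.detM A} : Set (Lie3Mod.D A)) =
      insert (Lie3Mod.detM A) {Lie3Mod.Q1 A, Lie3Mod.Q2 A, Lie3Mod.Q3 A} by
        rw [Set.pair_comm (Lie3Mod.Q3 A) (Lie3Mod.detM A),
          Set.insert_comm (Lie3Mod.Q2 A) (Lie3Mod.detM A),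
          Set.insert_comm (Lie3Mod.Q1 A) (Lie3Mod.detM A)],
    Ideal.mem_span_insert] at hJ
  obtain ⟨a, z, hz, rfl⟩ := hJ
  have ha : a ∈ Lie3Mod.idL A := regMod_detM a (by
    rw [mul_comm]
    simpa using sub_mem hL (idI_le_idL hz))
  refine add_mem ?_ hz
  exact idJ_mul_idL (by rw [mul_comm a]; exact Ideal.mul_mem_mul (Ideal.subset_span (by simp)) ha)

theorem colon_idJ :
    (Lie3Mod.idI A).colon (Lie3Mod.idJ A : Set (Lie3Mod.D A)) = Lie3Mod.idL A := by
  ext x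
  rw [Submodule.mem_colon]
  refine ⟨fun h => regMod_detM x ?_, fun h y hy => ?_⟩
  · rw [mul_comm]
    exact idI_le_idL (h _ (Ideal.subset_span (by simp)))
  · exact idJ_mul_idL (by
      rw [smul_eq_mul, mul_comm x y]
      exact Ideal.mul_mem_mul (SetLike.mem_coe.1 hy) h)

theorem idL_minimal [IsDomain A] : Lie3Mod.idL A ∈ (Lie3Mod.idI A).minimalPrimes := by
  refine ⟨⟨idL_isPrime, idI_le_idL⟩, fun P ⟨hP, hIP⟩ hle => ?_⟩
  have hd : Lie3Mod.detM A ∉ P := fun h => by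
    haveI := idL_isPrime (A := A)
    have h1 : Lie3Mod.detM A * 1 ∈ Lie3Mod.idL A := by rw [mul_one]; exact hle h
    exact Ideal.IsPrime.ne_top' (I := Lie3Mod.idL A)
      ((Ideal.eq_top_iff_one _).2 (regMod_detM 1 h1))
  refine Ideal.span_le.2 fun y hy => ?_
  exact (hP.mem_or_mem (hIP (detM_L_mem hy))).resolve_left hd

theorem idJ_minimal [IsDomain A] : Lie3Mod.idJ A ∈ (Lie3Mod.idI A).minimalPrimes := by
  refine ⟨⟨idJ_isPrime, idI_le_idJ⟩, fun P ⟨hP, hIP⟩ hle x hx => ?_⟩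
  exact (hP.mem_or_mem (hIP (mem_idJ_iff.1 hx))).resolve_left fun h => L1_notMem_idJ (hle h)

end Groth.Agent.Lie3Mod51
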