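import Groth.Agent.Lie3Mod51.Core
import Mathlib.RingTheory.Flat.TorsionFree

/-!
Flatness over the integers.
-/

set_option autoImplicit false

namespace Groth.Agent.Lie3Mod51

open MvPolynomial

theorem flat_quotient {I : Ideal (Lie3Mod.D ℤ)}
    (h : ∀ (z : ℤ) (x : Lie3Mod.D ℤ), C z * x ∈ I → z = 0 ∨ x ∈ I) :
    Module.Flat ℤ (Lie3Mod.D ℤ ⧸ I) := by
  rw [Module.Flat.flat_iff_torsion_eq_bot_of_isBezout]
  refine (Submodule.eq_bot_iff _).2 fun y hy => ?_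
  obtain ⟨⟨z, hz⟩, hzy⟩ := hy
  obtain ⟨x, rfl⟩ := Ideal.Quotient.mk_surjective y
  have h0 : Ideal.Quotient.mk I (C z * x) = 0 := by
    rw [show (C z * x : Lie3Mod.D ℤ) = z • x by rw [zsmul_eq_mul, eq_intCast (C : ℤ →+* Lie3Mod.D ℤ)],
      map_zsmul]
    exact hzy
  rw [Ideal.Quotient.eq_zero_iff_mem] at h0 ⊢
  exact (h z x h0).resolve_left (nonZeroDivisors.ne_zero hz)

theorem C_mem_idJ {A : Type*} [CommRing A] {a : A} (h : (C a : Lie3Mod.D A) ∈ Lie3Mod.idJ A) :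
    a = 0 := by
  rw [← mem_map_coord (I := Lie3Mod.idJ A), map_idJ] at h
  simpa [ev, coord] using ev9 h

theorem C_mem_idL {A : Type*} [CommRing A] {a : A} (h : (C a : Lie3Mod.D A) ∈ Lie3Mod.idL A) :
    a = 0 := by
  rw [← ker_killL, RingHom.mem_ker] at h
  simpa [killL] using h

theorem smul_mem_idJ {z : ℤ} {x : Lie3Mod.D ℤ} (h : C z * x ∈ Lie3Mod.idJ ℤ) :
    z = 0 ∨ x ∈ Lie3Mod.idJ ℤ :=
  (idJ_isPrime.mem_or_mem h).imp_left C_mem_idJ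

theorem smul_mem_idI {z : ℤ} {x : Lie3Mod.D ℤ} (h : C z * x ∈ Lie3Mod.idI ℤ) :
    z = 0 ∨ x ∈ Lie3Mod.idI ℤ := by
  rw [← inf_eq] at h ⊢
  refine or_iff_not_imp_left.2 fun hz => ⟨?_, ?_⟩
  · exact (idJ_isPrime.mem_or_mem h.1).resolve_left fun hm => hz (C_mem_idJ hm)
  · exact (idL_isPrime.mem_or_mem h.2).resolve_left fun hm => hz (C_mem_idL hm)

end Groth.Agent.Lie3Mod51
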