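import Mathlib.RingTheory.Localization.Away.Basic
import Mathlib.RingTheory.Localization.FractionRing
import Mathlib.RingTheory.Polynomial.Quotient
import Mathlib.RingTheory.Ideal.Quotient.Operations
import Mathlib.Algebra.MvPolynomial.CommRing
import Mathlib.RingTheory.MvPolynomial.Basic
import Mathlib.Tactic.LinearCombination

/-!
Regular elements, linear polynomials over a ring, kernels of monomial maps.
-/

set_option autoImplicit false

namespace Groth.Agent.Lie3Mod51

/-- `a` is regular modulo `K`. -/
def RegMod {R : Type*} [CommRing R] (K : Ideal R) (a : R) : Prop := ∀ x, a * x ∈ K → x ∈ K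

section Ring

variable {R : Type*} [CommRing R]

/-- Exchange of a regular sequence. -/
lemma RegMod.swap {K : Ideal R} {a b : R} (hb : RegMod K b)
    (ha : RegMod (K ⊔ Ideal.span {b}) a) : RegMod (K ⊔ Ideal.span {a}) b := by
  intro x hx
  rw [Submodule.mem_sup] at hx ⊢
  obtain ⟨k, hk, w, hw, hx⟩ := hx
  obtain ⟨y, rfl⟩ := Ideal.mem_span_singleton'.1 hw
  have hy : a * y ∈ K ⊔ Ideal.span {b} := by
    rw [show a * y = -k + x * b by linear_combination hx]
    exact add_mem (Ideal.mem_sup_left (neg_mem hk))
      (Ideal.mem_sup_right (Ideal.mul_mem_left _ x (Ideal.mem_span_singleton_self b)))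
  obtain ⟨k', hk', w', hw', hy'⟩ := Submodule.mem_sup.1 (ha y hy)
  obtain ⟨z, rfl⟩ := Ideal.mem_span_singleton'.1 hw'
  refine ⟨x - z * a, hb _ ?_, z * a, Ideal.mem_span_singleton'.2 ⟨z, rfl⟩, by ring⟩
  rw [show b * (x - z * a) = k + a * k' by linear_combination -hx - a * hy']
  exact add_mem hk (Ideal.mul_mem_left _ _ hk')

lemma RegMod.neg {K : Ideal R} {a : R} (ha : RegMod K a) : RegMod K (-a) := fun x hx =>
  ha x (by simpa using neg_mem hx)

lemma regMod_of_ker {S : Type*} [CommRing S] (φ : R →+* S) {a : R}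
    (ha : φ a ∈ nonZeroDivisors S) : RegMod (RingHom.ker φ) a := fun x hx => by
  rw [RingHom.mem_ker, map_mul] at hx
  exact RingHom.mem_ker.2 ((mul_right_mem_nonZeroDivisors_eq_zero_iff ha).1 (by rwa [mul_comm]))

open Polynomial

lemma regMod_map_C {K : Ideal R} {a : R} (ha : RegMod K a) :
    RegMod (K.map (C : R →+* R[X])) (C a) := fun q hq => by
  rw [Ideal.mem_map_C_iff] at hq ⊢
  exact fun n => ha _ (by simpa using hq n)

/-- A linear polynomial with regular leading coefficient is regular. -/
lemma regMod_linear {K : Ideal R} {l : R} (hl : RegMod K l) (p : R) :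
    RegMod (K.map (C : R →+* R[X])) (C l * X - C p) := fun q hq => by
  rw [Ideal.mem_map_C_iff] at hq ⊢
  have hstep : ∀ n, l * q.coeff n - p * q.coeff (n + 1) ∈ K := fun n => by
    have := hq (n + 1)
    rwa [sub_mul, mul_assoc, coeff_sub, coeff_C_mul, coeff_C_mul, coeff_X_mul] at this
  intro n
  by_contra hn
  have hfin : ∀ m, q.natDegree < m → q.coeff m ∈ K := fun m hm => by
    rw [coeff_eq_zero_of_natDegree_lt hm]; exact zero_mem K
  have : ∀ j m, q.natDegree < m + j → q.coeff m ∈ K := by
    intro j
    induction j with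
    | zero => exact fun m hm => hfin m (by omega)
    | succ j ih =>
      intro m hm
      refine hl _ ?_
      have h1 := ih (m + 1) (by omega)
      simpa using add_mem (hstep m) (Ideal.mul_mem_left _ p h1)
  exact hn (this (q.natDegree + 1) n (by omega))

/-- The kernel of `X ↦ p / l` for a regular `l` is generated by `l X - p` and linear relations
`δ X + ε` accounting for the colon ideal of `l` by the powers of `p`. -/
theorem mem_of_pow_mul_mem_of_bot {l p δ ε : R} (hl : RegMod ⊥ l)
    (hcol : ∀ (n : ℕ) (r : R), r * p ^ (n + 1) ∈ Ideal.span {l} → r ∈ Ideal.span {l, δ})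
    (hd : C l * (C δ * X + C ε) ∈ Ideal.span {C l * X - C p}) {q : R[X]} {m : ℕ}
    (hq : C l ^ m * q ∈ Ideal.span {C l * X - C p}) :
    q ∈ Ideal.span {C l * X - C p, C δ * X + C ε} := by
  let L := Localization.Away l
  have hinj : Function.Injective (algebraMap R L) := by
    refine IsLocalization.injective (M := Submonoid.powers l) L ?_
    intro x hx
    obtain ⟨k, rfl⟩ := hx
    clear hq
    induction k with
    | zero => simp
    | succ k ih =>
      refine mem_nonZeroDivisors_iff_right.2 fun z hz => ?_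
      change z * l ^ (k + 1) = 0 at hz
      refine (mem_nonZeroDivisors_iff_right.1 ih) z (hl _ ?_)
      rw [Ideal.mem_bot]
      linear_combination hz
  have hu : IsUnit (algebraMap R L l) := IsLocalization.Away.algebraMap_isUnit l
  obtain ⟨u, hu'⟩ := hu
  set t : L := ((u⁻¹ : Lˣ) : L) * algebraMap R L p with ht
  have htl : algebraMap R L l * t = algebraMap R L p := by
    rw [ht, ← hu', ← mul_assoc, Units.mul_inv, one_mul]
  let ψ : R[X] →+* L := eval₂RingHom (algebraMap R L) t
  have hψ : ∀ x ∈ Ideal.span {C l * X - C p}, ψ x = 0 := fun x hx => by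
    obtain ⟨y, rfl⟩ := Ideal.mem_span_singleton'.1 hx
    simp [ψ, htl]
  have hcancel : ∀ z : R[X], ψ (C l * z) = 0 → ψ z = 0 := fun z hz => by
    rw [map_mul, show ψ (C l) = algebraMap R L l from eval₂_C _ _, ← hu', Units.mul_right_eq_zero]
      at hz
    exact hz
  have hψd : ψ (C δ * X + C ε) = 0 := hcancel _ (hψ _ hd)
  have hψq : ψ q = 0 := by
    have := hψ _ hq
    clear hq
    induction m with
    | zero => simpa using this
    | succ k ih => exact ih (hcancel _ (by rw [← mul_assoc, ← pow_succ']; exact this))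
  have hψlin : ψ (C l * X - C p) = 0 := hψ _ (Ideal.mem_span_singleton_self _)
  clear hq hd
  suffices ∀ n (q : R[X]), q.natDegree ≤ n → ψ q = 0 →
      q ∈ Ideal.span {C l * X - C p, C δ * X + C ε} from this _ q le_rfl hψq
  intro n
  induction n with
  | zero =>
    intro q hn h0
    rw [eq_C_of_natDegree_le_zero hn, show ψ (C (q.coeff 0)) = algebraMap R L (q.coeff 0) from
      eval₂_C _ _, ← map_zero (algebraMap R L)] at h0
    rw [eq_C_of_natDegree_le_zero hn, hinj h0]
    simp
  | succ n ih =>
    intro q hn h0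
    set r := q.coeff (n + 1) with hr
    have hsum : r * p ^ (n + 1) + l * ∑ i ∈ Finset.range (n + 1), q.coeff i * p ^ i * l ^ (n - i) = 0 := by
      refine hinj ?_
      rw [map_zero, map_add, map_mul, map_pow, map_mul, map_sum, Finset.mul_sum]
      have h1 : algebraMap R L l ^ (n + 1) * ψ q = 0 := by rw [h0, mul_zero]
      rw [coe_eval₂RingHom, eval₂_eq_sum_range' (algebraMap R L) (n := n + 2) (by omega),
        Finset.sum_range_succ, mul_add, Finset.mul_sum, add_comm] at h1
      rw [← h1]
      congr 1
      · rw [← htl, mul_pow]; ring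
      · refine Finset.sum_congr rfl fun i hi => ?_
        obtain ⟨j, rfl⟩ : ∃ j, n = i + j := ⟨n - i, by have := Finset.mem_range.1 hi; omega⟩
        simp only [map_mul, map_pow, Nat.add_sub_cancel_left, ← htl, mul_pow]
        ring
    obtain ⟨a, b, hab⟩ := Ideal.mem_span_pair.1 (hcol n r (Ideal.mem_span_singleton'.2
      ⟨-∑ i ∈ Finset.range (n + 1), q.coeff i * p ^ i * l ^ (n - i), by linear_combination -hsum⟩))
    set q' := q - C a * X ^ n * (C l * X - C p) - C b * X ^ n * (C δ * X + C ε) with hq'
    have h1 : ψ q' = 0 := by simp only [hq', map_sub, map_mul, h0, hψlin, hψd]; simp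
    have h2 : q'.natDegree ≤ n := by
      rw [natDegree_le_iff_coeff_eq_zero]
      intro N hN
      have hexp : q' = q - C r * X ^ (n + 1) + C (a * p - b * ε) * X ^ n := by
        rw [hq', ← hab]
        simp only [map_add, map_mul, map_sub]
        ring
      rw [hexp]
      simp only [coeff_add, coeff_sub, coeff_C_mul, coeff_X_pow]
      rw [if_neg (show N ≠ n by omega)]
      by_cases hN1 : N = n + 1
      · subst hN1; simp [hr]
      · rw [if_neg hN1, coeff_eq_zero_of_natDegree_lt (by omega)]; simp
    have := ih q' h2 h1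
    rw [hq'] at this
    have e1 : C a * X ^ n * (C l * X - C p) ∈ Ideal.span {C l * X - C p, C δ * X + C ε} :=
      Ideal.mul_mem_left _ _ (Ideal.subset_span (by simp))
    have e2 : C b * X ^ n * (C δ * X + C ε) ∈ Ideal.span {C l * X - C p, C δ * X + C ε} :=
      Ideal.mul_mem_left _ _ (Ideal.subset_span (by simp))
    simpa using add_mem (add_mem this e2) e1

/-- Relative form of `mem_of_pow_mul_mem_of_bot`. -/
theorem mem_of_pow_mul_mem {K : Ideal R} {l p δ ε : R} (hl : RegMod K l)
    (hcol : ∀ (n : ℕ) (r : R), r * p ^ (n + 1) ∈ K ⊔ Ideal.span {l} → r ∈ K ⊔ Ideal.span {l, δ})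
    (hd : C l * (C δ * X + C ε) ∈ K.map C ⊔ Ideal.span {C l * X - C p}) {q : R[X]} {m : ℕ}
    (hq : C l ^ m * q ∈ K.map C ⊔ Ideal.span {C l * X - C p}) :
    q ∈ K.map C ⊔ Ideal.span {C l * X - C p, C δ * X + C ε} := by
  let π := Ideal.Quotient.mk K
  let P : R[X] →+* (R ⧸ K)[X] := mapRingHom π
  have hP : Function.Surjective P := Polynomial.map_surjective π Ideal.Quotient.mk_surjective
  have hkP : RingHom.ker P = K.map C := by
    rw [show RingHom.ker P = (RingHom.ker π).map C from ker_mapRingHom π, Ideal.mk_ker]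
  have key : ∀ (I : Ideal R[X]) (x : R[X]), x ∈ K.map C ⊔ I ↔ P x ∈ I.map P := fun I x => by
    rw [← Ideal.mem_comap, Ideal.comap_map_of_surjective _ hP, ← RingHom.ker_eq_comap_bot, hkP,
      sup_comm]
  have key' : ∀ (I : Ideal R) (x : R), x ∈ K ⊔ I ↔ π x ∈ I.map π := fun I x => by
    rw [← Ideal.mem_comap, Ideal.comap_map_of_surjective _ Ideal.Quotient.mk_surjective,
      ← RingHom.ker_eq_comap_bot, Ideal.mk_ker, sup_comm]
  rw [key, Ideal.map_span] at hd hq
  rw [key, Ideal.map_span]
  simp only [Set.image_insert_eq, Set.image_singleton, map_mul, map_sub, map_add, map_pow, P,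
    coe_mapRingHom, Polynomial.map_C, Polynomial.map_X, Polynomial.map_mul, Polynomial.map_sub,
    Polynomial.map_add, Polynomial.map_pow] at hd hq ⊢
  refine mem_of_pow_mul_mem_of_bot ?_ ?_ hd hq
  · intro x hx
    obtain ⟨x, rfl⟩ := Ideal.Quotient.mk_surjective x
    rw [Ideal.mem_bot, ← map_mul, Ideal.Quotient.eq_zero_iff_mem] at hx
    rw [Ideal.mem_bot, Ideal.Quotient.eq_zero_iff_mem]
    exact hl x hx
  · intro n r hr
    obtain ⟨r, rfl⟩ := Ideal.Quotient.mk_surjective r
    have h1 := hcol n r (by
      rw [key', Ideal.map_span, Set.image_singleton]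
      simpa [π] using hr)
    rw [key', Ideal.map_span, Set.image_insert_eq, Set.image_singleton] at h1
    exact h1

/-- Saturations with respect to the leading coefficient of a linear polynomial over a prime
ideal are prime. -/
theorem isPrime_of_saturated {K : Ideal R} [K.IsPrime] {l p : R} (hl : l ∉ K)
    {J : Ideal R[X]} (hJ : ∀ q, q ∈ J ↔ ∃ m : ℕ, C l ^ m * q ∈ K.map C ⊔ Ideal.span {C l * X - C p}) :
    J.IsPrime := by
  let F := FractionRing (R ⧸ K)
  let π : R →+* F := (algebraMap (R ⧸ K) F).comp (Ideal.Quotient.mk K)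
  have hker : ∀ x, π x = 0 ↔ x ∈ K := fun x => by
    simp [π, Ideal.Quotient.eq_zero_iff_mem]
  set t := π p / π l
  have hl0 : π l ≠ 0 := fun h => hl ((hker l).1 h)
  suffices J = RingHom.ker (eval₂RingHom π t) by rw [this]; exact RingHom.ker_isPrime _
  ext q
  rw [hJ, RingHom.mem_ker]
  constructor
  · rintro ⟨m, hm⟩
    have hle : K.map C ⊔ Ideal.span {C l * X - C p} ≤ RingHom.ker (eval₂RingHom π t) := by
      refine sup_le (Ideal.map_le_iff_le_comap.2 fun x hx => ?_) ?_
      · rw [Ideal.mem_comap, RingHom.mem_ker, coe_eval₂RingHom, eval₂_C, hker]; exact hx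
      · rw [Ideal.span_le, Set.singleton_subset_iff, SetLike.mem_coe, RingHom.mem_ker]
        simp [t, mul_div_cancel₀ _ hl0]
    have := RingHom.mem_ker.1 (hle hm)
    rw [map_mul, map_pow, coe_eval₂RingHom, eval₂_C, mul_eq_zero] at this
    exact this.resolve_left (pow_ne_zero _ hl0)
  · intro h0
    -- clear denominators
    set I := K.map C ⊔ Ideal.span {C l * X - C p} with hI
    have hlin : C l * X - C p ∈ I := Ideal.mem_sup_right (Ideal.mem_span_singleton_self _)
    suffices ∀ n (q : R[X]), q.natDegree ≤ n → ∃ (m : ℕ) (r : R), C l ^ m * q - C r ∈ I by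
      obtain ⟨m, r, hr⟩ := this _ q le_rfl
      have hle : I ≤ RingHom.ker (eval₂RingHom π t) := by
        refine sup_le (Ideal.map_le_iff_le_comap.2 fun x hx => ?_) ?_
        · rw [Ideal.mem_comap, RingHom.mem_ker, coe_eval₂RingHom, eval₂_C, hker]; exact hx
        · rw [Ideal.span_le, Set.singleton_subset_iff, SetLike.mem_coe, RingHom.mem_ker]
          simp [t, mul_div_cancel₀ _ hl0]
      have h1 := RingHom.mem_ker.1 (hle hr)
      rw [map_sub, map_mul, h0, mul_zero, zero_sub, neg_eq_zero, coe_eval₂RingHom, eval₂_C,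
        hker] at h1
      refine ⟨m, ?_⟩
      simpa using add_mem hr (Ideal.mem_sup_left (Ideal.mem_map_of_mem C h1) : C r ∈ I)
    intro n
    induction n with
    | zero => exact fun q hn => ⟨0, q.coeff 0, by
        rw [pow_zero, one_mul, ← eq_C_of_natDegree_le_zero hn, sub_self]; exact zero_mem _⟩
    | succ n ih =>
      intro q hn
      obtain ⟨m, r, hr⟩ := ih (C l * q - C (q.coeff (n + 1)) * X ^ n * (C l * X - C p)) (by
        rw [natDegree_le_iff_coeff_eq_zero]
        intro N hN
        have hexp : C l * q - C (q.coeff (n + 1)) * X ^ n * (C l * X - C p) =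
            C l * q - C (l * q.coeff (n + 1)) * X ^ (n + 1) + C (p * q.coeff (n + 1)) * X ^ n := by
          simp only [map_mul]; ring
        rw [hexp]
        simp only [coeff_add, coeff_sub, coeff_C_mul, coeff_X_pow]
        rw [if_neg (show N ≠ n by omega)]
        by_cases hN1 : N = n + 1
        · subst hN1; simp
        · rw [if_neg hN1, coeff_eq_zero_of_natDegree_lt (by omega)]; simp)
      refine ⟨m + 1, r, ?_⟩
      have := add_mem hr (Ideal.mul_mem_left _ (C l ^ m * C (q.coeff (n + 1)) * X ^ n) hlin)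
      rw [pow_succ]
      convert this using 1
      ring

end Ring

section MvPolynomial

open MvPolynomial

variable {A : Type*} [CommRing A] {σ : Type*}

/-- A polynomial with a unit coefficient at a monomial of maximal weight is regular. -/
lemma regular_of_weight (w : (σ →₀ ℕ) →+ ℕ) (u : σ →₀ ℕ) {c : A} (hc : IsUnit c)
    {p : MvPolynomial σ A} (hu : coeff u p = c) (hp : ∀ a, w u ≤ w a → a ≠ u → coeff a p = 0) :
    p ∈ nonZeroDivisors (MvPolynomial σ A) := by
  classical
  refine mem_nonZeroDivisors_iff_right.2 fun f hf => ?_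
  by_contra hne
  obtain ⟨m, hm, hmax⟩ := f.support.exists_max_image w (support_nonempty.2 hne)
  have h := congrArg (coeff (u + m)) (show p * f = 0 by rw [mul_comm]; exact hf)
  rw [coeff_mul, Finset.sum_eq_single (u, m), coeff_zero, hu, hc.mul_right_eq_zero] at h
  · exact (mem_support_iff.1 hm) h
  · rintro ⟨a, b⟩ hab hne'
    rw [Finset.HasAntidiagonal.mem_antidiagonal] at hab
    by_cases hau : a = u
    · subst hau; exact (hne' (Prod.ext rfl (add_left_cancel hab))).elim
    by_cases hb : coeff b f = 0
    · rw [hb, mul_zero]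
    have h1 := hmax b (mem_support_iff.2 hb)
    have h2 : w a + w b = w u + w m := by rw [← map_add, ← map_add, hab]
    rw [hp a (by omega) hau, zero_mul]
  · intro h'
    simp at h'

/-- Setting some of the variables to zero. -/
noncomputable def kill (Z : Finset σ) : MvPolynomial σ A →ₐ[A] MvPolynomial σ A :=
  haveI := Classical.decEq σ
  aeval fun i => if i ∈ Z then 0 else X i

lemma ker_kill (Z : Finset σ) :
    RingHom.ker (kill (A := A) Z) = Ideal.span ((fun i => (X i : MvPolynomial σ A)) '' Z) := by
  classical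
  refine le_antisymm (fun x hx => ?_) ?_
  · have h : ∀ y : MvPolynomial σ A, y - kill Z y ∈
        Ideal.span ((fun i => (X i : MvPolynomial σ A)) '' Z) := by
      intro y
      induction y using MvPolynomial.induction_on with
      | C a => simp [kill]
      | add p q hp hq =>
        rw [map_add, show p + q - (kill Z p + kill Z q) = (p - kill Z p) + (q - kill Z q) by ring]
        exact add_mem hp hq
      | mul_X p i hp =>
        rw [map_mul, show kill (A := A) Z (X i) = (if i ∈ Z then 0 else X i : MvPolynomial σ A) from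
          aeval_X _ i]
        split_ifs with hi
        · simpa using Ideal.mul_mem_left _ p (Ideal.subset_span (α := MvPolynomial σ A) (s := (fun i => (X i : MvPolynomial σ A)) '' Z) ⟨i, hi, rfl⟩)
        · rw [← sub_mul]; exact Ideal.mul_mem_right _ _ hp
    simpa [RingHom.mem_ker.1 hx] using h x
  · rw [Ideal.span_le]
    rintro _ ⟨i, hi, rfl⟩
    simp [kill, RingHom.mem_ker, Finset.mem_coe.1 hi]

/-- Kernels of monomial maps: it suffices that every monomial reduces modulo `K` to zero or to a
normal monomial, and that normal monomials have distinct images. -/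
lemma mem_of_map_eq_zero {τ : Type*} (φ : MvPolynomial σ A →ₐ[A] MvPolynomial τ A)
    (N : Set (σ →₀ ℕ)) (E : (σ →₀ ℕ) → (τ →₀ ℕ))
    (hN : ∀ m ∈ N, φ (monomial m 1) = monomial (E m) 1) (hinj : Set.InjOn E N)
    (K : Ideal (MvPolynomial σ A)) (hK : ∀ x ∈ K, φ x = 0)
    (hred : ∀ m : σ →₀ ℕ, monomial m 1 ∈ K ∨ ∃ m' ∈ N, monomial m 1 - monomial m' 1 ∈ K)
    {x : MvPolynomial σ A} (hx : φ x = 0) : x ∈ K := by
  classical
  let W : Submodule A (MvPolynomial σ A) :=
    Submodule.span A ((fun m => monomial m (1 : A)) '' N)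
  have hdec : ∀ y : MvPolynomial σ A, ∃ w ∈ W, y - w ∈ K := by
    intro y
    induction y using MvPolynomial.induction_on' with
    | add p q hp hq =>
      obtain ⟨w, hw, h⟩ := hp
      obtain ⟨w', hw', h'⟩ := hq
      exact ⟨w + w', add_mem hw hw', by rw [add_sub_add_comm]; exact add_mem h h'⟩
    | monomial m a =>
      have e : monomial m a = a • (monomial m (1 : A) : MvPolynomial σ A) := by
        rw [smul_monomial, smul_eq_mul, mul_one]
      rcases hred m with h | ⟨m', hm', h⟩
      · exact ⟨0, zero_mem _, by rw [sub_zero, e]; exact Submodule.smul_of_tower_mem K a h⟩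
      · exact ⟨a • monomial m' 1, Submodule.smul_mem _ a (Submodule.subset_span ⟨m', hm', rfl⟩),
          by rw [e, ← smul_sub]; exact Submodule.smul_of_tower_mem K a h⟩
  obtain ⟨w, hw, hxw⟩ := hdec x
  suffices w = 0 by simpa [this] using hxw
  have hw0 : φ w = 0 := by
    have := hK _ hxw
    rw [map_sub, hx, zero_sub, neg_eq_zero] at this
    exact this
  obtain ⟨c, hc, rfl⟩ := (Finsupp.mem_span_image_iff_linearCombination A).1 hw
  rw [Finsupp.linearCombination_apply] at hw0 ⊢
  have hcN : ∀ m ∈ c.support, m ∈ N := fun m hm => hc hm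
  suffices c = 0 by simp [this]
  ext m
  by_cases hm : m ∈ c.support
  swap
  · simpa using hm
  have h := congrArg (coeff (E m)) hw0
  rw [Finsupp.sum, map_sum, coeff_sum, coeff_zero, Finset.sum_eq_single m] at h
  · rw [map_smul, hN m (hcN m hm), coeff_smul, coeff_monomial, if_pos rfl, smul_eq_mul, mul_one] at h
    simpa using h
  · intro b hb hbm
    rw [map_smul, hN b (hcN b hb), coeff_smul, coeff_monomial,
      if_neg (fun h => hbm (hinj (hcN b hb) (hcN m hm) h)), smul_zero]
  · exact fun h' => absurd hm h'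

end MvPolynomial

end Groth.Agent.Lie3Mod51
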