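import Groth.Agent.Lie3Mod51.Lin
import Mathlib.Algebra.MvPolynomial.Equiv
import Mathlib.Algebra.BigOperators.Fin

/-!
Linear polynomials in the variable `X 0`, and monomial maps with normal monomials.
-/

set_option autoImplicit false

namespace Groth.Agent.Lie3Mod51

open MvPolynomial

section Succ

variable {A : Type*} [CommRing A] {n : ℕ}

/-- The inclusion of the polynomial ring not involving `X 0`. -/
noncomputable def inc : MvPolynomial (Fin n) A →+* MvPolynomial (Fin (n + 1)) A :=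
  (rename Fin.succ : MvPolynomial (Fin n) A →ₐ[A] MvPolynomial (Fin (n + 1)) A).toRingHom

@[simp] lemma inc_X (i : Fin n) : inc (X i : MvPolynomial (Fin n) A) = X i.succ :=
  rename_X _ _

@[simp] lemma inc_C (a : A) : inc (C a : MvPolynomial (Fin n) A) = C a := rename_C _ _

/-- `MvPolynomial (Fin (n+1)) A` as polynomials in `X 0`. -/
noncomputable def toPoly : MvPolynomial (Fin (n + 1)) A ≃+* Polynomial (MvPolynomial (Fin n) A) :=
  (finSuccEquiv A n).toRingEquiv

lemma toPoly_inc (x : MvPolynomial (Fin n) A) : toPoly (inc x) = Polynomial.C x := by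
  change (finSuccEquiv A n).toAlgHom.toRingHom.comp inc x = Polynomial.C x
  refine RingHom.congr_fun (MvPolynomial.ringHom_ext (fun a => ?_) (fun i => ?_)) x
  · change (finSuccEquiv A n) (inc (C a)) = _
    rw [inc_C, finSuccEquiv_apply, eval₂Hom_C, RingHom.comp_apply]
  · change (finSuccEquiv A n) (inc (X i)) = _
    rw [inc_X, finSuccEquiv_X_succ]

lemma toPoly_X : toPoly (X 0 : MvPolynomial (Fin (n + 1)) A) = Polynomial.X :=
  finSuccEquiv_X_zero

lemma toPoly_mem {I : Ideal (MvPolynomial (Fin (n + 1)) A)} (x : MvPolynomial (Fin (n + 1)) A) :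
    toPoly x ∈ I.map toPoly.toRingHom ↔ x ∈ I := by
  refine ⟨fun h => ?_, fun h => Ideal.mem_map_of_mem _ h⟩
  obtain ⟨y, hy, hxy⟩ := (Ideal.mem_map_iff_of_surjective _ toPoly.surjective).1 h
  rwa [← toPoly.injective hxy]

lemma map_toPoly_inc (K : Ideal (MvPolynomial (Fin n) A)) :
    (K.map inc).map toPoly.toRingHom = K.map Polynomial.C := by
  rw [Ideal.map_map]
  congr 1
  exact RingHom.ext toPoly_inc

lemma regMod_inc {K : Ideal (MvPolynomial (Fin n) A)} {a : MvPolynomial (Fin n) A}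
    (ha : RegMod K a) : RegMod (K.map inc) (inc a) := fun x hx => by
  rw [← toPoly_mem, map_toPoly_inc] at hx ⊢
  exact regMod_map_C ha _ (by rwa [map_mul, toPoly_inc] at hx)

lemma regMod_inc_linear {K : Ideal (MvPolynomial (Fin n) A)} {l : MvPolynomial (Fin n) A}
    (hl : RegMod K l) (p : MvPolynomial (Fin n) A) :
    RegMod (K.map inc) (inc l * X 0 - inc p) := fun x hx => by
  rw [← toPoly_mem, map_toPoly_inc] at hx ⊢
  exact regMod_linear hl p _ (by simpa [map_mul, map_sub, toPoly_inc, toPoly_X] using hx)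

lemma map_toPoly_sup (K : Ideal (MvPolynomial (Fin n) A)) (s : Set (MvPolynomial (Fin (n + 1)) A)) :
    (K.map inc ⊔ Ideal.span s).map toPoly.toRingHom =
      K.map Polynomial.C ⊔ Ideal.span (toPoly '' s) := by
  rw [Ideal.map_sup, map_toPoly_inc, Ideal.map_span]
  rfl

theorem mem_of_pow_mul_mem_inc {K : Ideal (MvPolynomial (Fin n) A)}
    {l p δ ε : MvPolynomial (Fin n) A} (hl : RegMod K l)
    (hcol : ∀ (m : ℕ) (r : MvPolynomial (Fin n) A),
      r * p ^ (m + 1) ∈ K ⊔ Ideal.span {l} → r ∈ K ⊔ Ideal.span {l, δ})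
    (hd : inc l * (inc δ * X 0 + inc ε) ∈ K.map inc ⊔ Ideal.span {inc l * X 0 - inc p})
    {q : MvPolynomial (Fin (n + 1)) A} {m : ℕ}
    (hq : inc l ^ m * q ∈ K.map inc ⊔ Ideal.span {inc l * X 0 - inc p}) :
    q ∈ K.map inc ⊔ Ideal.span {inc l * X 0 - inc p, inc δ * X 0 + inc ε} := by
  rw [← toPoly_mem, map_toPoly_sup] at hd hq ⊢
  simp only [Set.image_insert_eq, Set.image_singleton, map_mul, map_add, map_sub, map_pow,
    toPoly_inc, toPoly_X] at hd hq ⊢
  exact mem_of_pow_mul_mem hl hcol hd hq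

theorem isPrime_of_saturated_inc {K : Ideal (MvPolynomial (Fin n) A)} [K.IsPrime]
    {l p : MvPolynomial (Fin n) A} (hl : l ∉ K) {J : Ideal (MvPolynomial (Fin (n + 1)) A)}
    (hJ : ∀ q, q ∈ J ↔ ∃ m : ℕ, inc l ^ m * q ∈ K.map inc ⊔ Ideal.span {inc l * X 0 - inc p}) :
    J.IsPrime := by
  have h : (J.map toPoly.toRingHom).IsPrime := by
    refine isPrime_of_saturated hl (p := p) fun q => ?_
    obtain ⟨q, rfl⟩ := toPoly.surjective q
    rw [toPoly_mem, hJ]
    refine exists_congr fun m => ?_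
    rw [← toPoly_mem, map_toPoly_sup]
    simp only [Set.image_singleton, map_mul, map_sub, map_pow, toPoly_inc, toPoly_X]
  have h' : J = (J.map toPoly.toRingHom).comap toPoly.toRingHom :=
    Ideal.ext fun x => (toPoly_mem x).symm
  rw [h']
  exact Ideal.comap_isPrime _ _

end Succ

section MonMap

variable {A : Type*} [CommRing A] {σ τ : Type*}

/-- The monomial map with exponent vectors `v` killing the variables in `Z`. -/
noncomputable def monMap [DecidableEq σ] (v : σ → τ →₀ ℕ) (Z : Finset σ) :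
    MvPolynomial σ A →ₐ[A] MvPolynomial τ A :=
  aeval fun i => if i ∈ Z then 0 else monomial (v i) 1

lemma monMap_monomial [Fintype σ] [DecidableEq σ] (v : σ → τ →₀ ℕ) (Z : Finset σ) {m : σ →₀ ℕ}
    (hm : ∀ i ∈ Z, m i = 0) :
    monMap v Z (monomial m (1 : A)) = monomial (∑ i, m i • v i) 1 := by
  rw [monMap, aeval_monomial, map_one, one_mul, Finsupp.prod_fintype _ _ (fun i => pow_zero _),
    monomial_sum_one]
  refine Finset.prod_congr rfl fun i _ => ?_
  by_cases hi : i ∈ Z
  · simp [hm i hi]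
  · rw [if_neg hi, monomial_pow, one_pow]

/-- Replacing the factor `X a * X b` of a monomial by `X c * X d` modulo a binomial. -/
lemma reduce_step [DecidableEq σ] {K : Ideal (MvPolynomial σ A)} {a b c d : σ} {m : σ →₀ ℕ}
    (hab : a ≠ b) (ha : 0 < m a) (hb : 0 < m b) (hK : X a * X b - X c * X d ∈ K) :
    ∃ m₀ : σ →₀ ℕ, m = m₀ + (Finsupp.single a 1 + Finsupp.single b 1) ∧
      monomial m (1 : A) - monomial (m₀ + (Finsupp.single c 1 + Finsupp.single d 1)) 1 ∈ K := by
  have hle : Finsupp.single a 1 + Finsupp.single b 1 ≤ m := by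
    intro i
    simp only [Finsupp.add_apply, Finsupp.single_apply]
    split_ifs with h1 h2 h2 <;> subst_vars <;> first | exact absurd rfl hab | omega
  refine ⟨m - (Finsupp.single a 1 + Finsupp.single b 1), (tsub_add_cancel_of_le hle).symm, ?_⟩
  have := Ideal.mul_mem_left K (monomial (m - (Finsupp.single a 1 + Finsupp.single b 1)) 1) hK
  conv at this => rw [mul_sub, X, X, X, X, monomial_mul, monomial_mul, monomial_mul, monomial_mul,
    tsub_add_cancel_of_le hle]
  simpa using this

/-- Replacing the factor `X a ^ 2` of a monomial by `X c * X d` modulo a binomial. -/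
lemma reduce_step_sq [DecidableEq σ] {K : Ideal (MvPolynomial σ A)} {a c d : σ} {m : σ →₀ ℕ}
    (ha : 2 ≤ m a) (hK : X a * X a - X c * X d ∈ K) :
    ∃ m₀ : σ →₀ ℕ, m = m₀ + Finsupp.single a 2 ∧
      monomial m (1 : A) - monomial (m₀ + (Finsupp.single c 1 + Finsupp.single d 1)) 1 ∈ K := by
  have hle : Finsupp.single a 2 ≤ m := Finsupp.single_le_iff.2 ha
  refine ⟨m - Finsupp.single a 2, (tsub_add_cancel_of_le hle).symm, ?_⟩
  have := Ideal.mul_mem_left K (monomial (m - Finsupp.single a 2) 1) hK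
  conv at this => rw [mul_sub, X, X, X, monomial_mul, monomial_mul, monomial_mul, monomial_mul,
    ← Finsupp.single_add, tsub_add_cancel_of_le hle]
  simpa using this

/-- Termination of monomial reduction. -/
lemma reduce_all {K : Ideal (MvPolynomial σ A)} (N : Set (σ →₀ ℕ)) (μ : (σ →₀ ℕ) → ℕ)
    (step : ∀ m : σ →₀ ℕ, monomial m (1 : A) ∈ K ∨ m ∈ N ∨
      ∃ m', μ m' < μ m ∧ monomial m (1 : A) - monomial m' 1 ∈ K) :
    ∀ m : σ →₀ ℕ, monomial m (1 : A) ∈ K ∨ ∃ m' ∈ N, monomial m (1 : A) - monomial m' 1 ∈ K := by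
  suffices ∀ k m, μ m ≤ k → monomial m (1 : A) ∈ K ∨
      ∃ m' ∈ N, monomial m (1 : A) - monomial m' 1 ∈ K from fun m => this _ m le_rfl
  intro k
  induction k with
  | zero =>
    intro m hm
    rcases step m with h | h | ⟨m', h, -⟩
    · exact .inl h
    · exact .inr ⟨m, h, by simp⟩
    · omega
  | succ k ih =>
    intro m hm
    rcases step m with h | h | ⟨m', h, h'⟩
    · exact .inl h
    · exact .inr ⟨m, h, by simp⟩
    · rcases ih m' (by omega) with h2 | ⟨m'', h2, h3⟩
      · exact .inl (by simpa using add_mem h' h2)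
      · exact .inr ⟨m'', h2, by simpa using add_mem h' h3⟩

lemma monomial_mem_of_X_mem {K : Ideal (MvPolynomial σ A)} {i : σ} (hi : (X i : MvPolynomial σ A) ∈ K)
    {m : σ →₀ ℕ} (hm : 0 < m i) : monomial m (1 : A) ∈ K := by
  have hle : Finsupp.single i 1 ≤ m := Finsupp.single_le_iff.2 hm
  have := Ideal.mul_mem_left K (monomial (m - Finsupp.single i 1) 1) hi
  rwa [X, monomial_mul, one_mul, tsub_add_cancel_of_le hle] at this

end MonMap

end Groth.Agent.Lie3Mod51
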