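import Groth.Agent.Lie3Mod51.Mv

/-!
The Jacobi polynomials in triangular coordinates: a tower of polynomial rings
`B = A[h,i,f,l₁,l₂,l₃] ⊆ R₇ = B[g] ⊆ R₈ = R₇[c] ⊆ D₉ = R₈[e]`,
regularity of the three polynomials.
-/

set_option autoImplicit false

namespace Groth.Agent.Lie3Mod51

open MvPolynomial

variable (A : Type*) [CommRing A]

noncomputable def p1 : MvPolynomial (Fin 6) A := X 0 * X 3 + X 1 * X 5
noncomputable def q1 : MvPolynomial (Fin 7) A := inc (X 4) * X 0 - inc (p1 A)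
noncomputable def p3 : MvPolynomial (Fin 7) A := X 3 * X 4 + X 2 * X 5
noncomputable def q3 : MvPolynomial (Fin 8) A := inc (X 6) * X 0 - inc (p3 A)
noncomputable def p2 : MvPolynomial (Fin 8) A := X 6 * X 7 - X 2 * X 6 - X 4 * X 7
noncomputable def q2 : MvPolynomial (Fin 9) A := inc (X 5) * X 0 - inc (p2 A)
noncomputable def δ : MvPolynomial (Fin 8) A := X 3 * X 3 - X 1 * X 0
noncomputable def ε : MvPolynomial (Fin 8) A :=
  -(X 0 * X 2 ^ 2) + X 1 * (X 6 - X 4) * X 4 + X 2 * (X 6 - X 4) * X 3 - X 3 * X 2 * X 4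
noncomputable def det : MvPolynomial (Fin 9) A := inc (δ A) * X 0 + inc (ε A)

noncomputable def K7 : Ideal (MvPolynomial (Fin 7) A) := Ideal.span {q1 A}
noncomputable def K8 : Ideal (MvPolynomial (Fin 8) A) := (K7 A).map inc ⊔ Ideal.span {q3 A}
noncomputable def I9 : Ideal (MvPolynomial (Fin 9) A) := (K8 A).map inc ⊔ Ideal.span {q2 A}
noncomputable def J9 : Ideal (MvPolynomial (Fin 9) A) := (K8 A).map inc ⊔ Ideal.span {q2 A, det A}

variable {A}

lemma regular_top {τ : Type*} (w : (τ →₀ ℕ) →+ ℕ) (u : τ →₀ ℕ) {c : A} (hc : IsUnit c)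
    {r : MvPolynomial τ A} (hr : ∀ a, w u ≤ w a → coeff a r = 0) :
    monomial u c + r ∈ nonZeroDivisors (MvPolynomial τ A) := by
  classical
  refine regular_of_weight w u hc ?_ fun a ha hau => ?_
  · simp [hr u le_rfl]
  · simp [hr a ha, Ne.symm hau]

lemma coeff_monomial_of_lt {τ : Type*} (w : (τ →₀ ℕ) →+ ℕ) {u v a : τ →₀ ℕ} (hv : w v < w u)
    (ha : w u ≤ w a) (c : A) : coeff a (monomial v c) = 0 := by
  classical
  rw [coeff_monomial, if_neg]
  rintro rfl
  omega

lemma X_regular {σ : Type*} (j : σ) : (X j : MvPolynomial σ A) ∈ nonZeroDivisors _ := by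
  have := regular_top (Finsupp.applyAddHom j) (Finsupp.single j 1) (c := (1 : A)) isUnit_one
    (r := 0) (fun a _ => coeff_zero a)
  rwa [add_zero] at this

lemma regMod_X {σ : Type*} (Z : Finset σ) {j : σ} (hj : j ∉ Z) :
    RegMod (Ideal.span ((fun i => (X i : MvPolynomial σ A)) '' Z)) (X j) := by
  classical
  rw [← ker_kill]
  exact regMod_of_ker (kill Z).toRingHom (by simpa [kill, hj] using X_regular j)

lemma regMod_bot {R : Type*} [CommRing R] {a : R} (ha : a ∈ nonZeroDivisors R) :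
    RegMod (⊥ : Ideal R) a := fun x hx => by
  rw [Ideal.mem_bot] at hx ⊢
  exact (mem_nonZeroDivisors_iff_right.1 ha) x (by rwa [mul_comm])

lemma map_inc_X {n : ℕ} (i : Fin n) :
    (Ideal.span {(X i : MvPolynomial (Fin n) A)}).map inc = Ideal.span {X i.succ} := by
  rw [Ideal.map_span, Set.image_singleton, inc_X]

lemma regMod_ext {R : Type*} [CommRing R] {K K' : Ideal R} {a a' : R} (h : RegMod K a)
    (hK : K = K') (ha : a = a') : RegMod K' a' := hK ▸ ha ▸ h

lemma reg7_l1 : RegMod (K7 A) (X 4) := by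
  have h1 : RegMod (Ideal.span {(X 4 : MvPolynomial (Fin 7) A)}) (q1 A) :=
    regMod_ext (regMod_inc_linear (regMod_X {(3 : Fin 6)} (j := 4) (by decide)) (p1 A))
      (by simp [Finset.coe_singleton, map_inc_X]) rfl
  have := RegMod.swap (K := ⊥) (regMod_bot (X_regular (A := A) (4 : Fin 7))) (by simpa using h1)
  simpa [K7] using this

lemma reg7_l3 : RegMod (K7 A) (X 6) := by
  have h1 : RegMod (Ideal.span {(X 6 : MvPolynomial (Fin 7) A)}) (q1 A) :=
    regMod_ext (regMod_inc_linear (regMod_X {(5 : Fin 6)} (j := 4) (by decide)) (p1 A))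
      (by simp [Finset.coe_singleton, map_inc_X]) rfl
  have := RegMod.swap (K := ⊥) (regMod_bot (X_regular (A := A) (6 : Fin 7))) (by simpa using h1)
  simpa [K7] using this

lemma reg7_l13 : RegMod (K7 A ⊔ Ideal.span {X 4}) (X 6) := by
  have h1 : RegMod (Ideal.span {(X 4 : MvPolynomial (Fin 7) A)} ⊔ Ideal.span {X 6}) (q1 A) :=
    regMod_ext (regMod_inc_linear (regMod_X {(3 : Fin 6), 5} (j := 4) (by decide)) (p1 A))
      (by simp [Set.image_insert_eq, Ideal.span_insert, Ideal.map_sup, map_inc_X]) rfl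
  have h2 : RegMod (Ideal.span {(X 4 : MvPolynomial (Fin 7) A)}) (X 6) :=
    regMod_ext (regMod_X {(4 : Fin 7)} (j := 6) (by decide)) (by simp) rfl
  exact regMod_ext (RegMod.swap h2 h1) (by rw [K7, sup_comm]) rfl

lemma reg8_l1 : RegMod (K8 A) (X 5) := by
  have h1 : RegMod ((K7 A).map inc) (X 5 : MvPolynomial (Fin 8) A) :=
    regMod_ext (regMod_inc (reg7_l1 (A := A))) rfl (inc_X _)
  have h2 : RegMod ((K7 A).map inc ⊔ Ideal.span {X 5}) (q3 A) :=
    regMod_ext (regMod_inc_linear (reg7_l13 (A := A)) (p3 A))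
      (by rw [Ideal.map_sup, map_inc_X]; rfl) rfl
  exact RegMod.swap h1 h2

lemma reg9_q1 : RegMod (⊥ : Ideal (MvPolynomial (Fin 9) A)) (inc (inc (q1 A))) := by
  have h := regMod_inc (regMod_inc (regMod_inc_linear
    (regMod_bot (X_regular (A := A) (4 : Fin 6))) (p1 A)))
  simp only [Ideal.map_bot] at h
  exact h

lemma K8_map : (K8 A).map inc =
    Ideal.span {inc (inc (q1 A))} ⊔ Ideal.span {inc (q3 A)} := by
  simp [K8, K7, Ideal.map_sup, Ideal.map_span, Set.image_singleton]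

lemma reg9_q2 : RegMod (Ideal.span {inc (inc (q1 A))}) (q2 A) :=
  regMod_ext (regMod_inc_linear (regMod_inc (reg7_l1 (A := A))) (p2 A))
    (by simp [K7, Ideal.map_span, Set.image_singleton])
    (by rw [q2, inc_X (4 : Fin 7)]; rfl)

lemma reg9_q3 : RegMod (Ideal.span {inc (inc (q1 A))} ⊔ Ideal.span {q2 A}) (inc (q3 A)) := by
  have h1 : RegMod (Ideal.span {inc (inc (q1 A))}) (inc (q3 A)) :=
    regMod_ext (regMod_inc (regMod_inc_linear (reg7_l3 (A := A)) (p3 A)))
      (by simp [K7, Ideal.map_span, Set.image_singleton]) rfl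
  have h2 : RegMod (Ideal.span {inc (inc (q1 A))} ⊔ Ideal.span {inc (q3 A)}) (q2 A) :=
    regMod_ext (regMod_inc_linear (reg8_l1 (A := A)) (p2 A)) K8_map rfl
  exact RegMod.swap h1 h2

end Groth.Agent.Lie3Mod51
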